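import Cfsg.Agent.Mrg.Omega.FOne.Act.Sym
import Cfsg.Agent.Mrg.Omega.FF.GlobEnd

section


/-!
# (F1), the minimal parabolic case, closed form

`Sit.nmax` : an exact atom `B ≤ T` of order `≥ 4`, `C_W(T) ≤ ker p` : `T` is in at least two maximal subgroups of `X`.
-/

set_option autoImplicit false

namespace Cfsg.Agent.Omega.FOne.ActR

universe u

/-- **nmax** -/
theorem Sit.nmax {X M : Type u} {W : Type*} [Group X] [Finite X] [CommGroup M] [Finite M] [MulDistribMulAction X M]
    [CommGroup W] [Finite W] [MulDistribMulAction X W] {T B : Subgroup X} {p : W →* M} (h : Sit T B p) :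
    ¬ ∃ N : Subgroup X, N ≠ ⊤ ∧ ∀ R : Subgroup X, T ≤ R → R ≠ ⊤ → R ≤ N :=
  Sit.nmax_of FF.Glob.aStmt h

/-- generation by one vector -/
theorem gen_of {X M : Type*} [Group X] [CommGroup M] [MulDistribMulAction X M] {T : Subgroup X} {m₀ : M}
    (h0 : ∀ t ∈ T, t • m₀ = m₀)
    (gen : ∀ U : Subgroup M, (∀ x : X, ∀ u ∈ U, x • u ∈ U) → m₀ ∈ U → U = ⊤) (U : Subgroup M)
    (hU : ∀ m : M, (∀ t ∈ T, t • m = m) → ∀ x : X, x • m ∈ U) : U = ⊤ := by
  -- the largest invariant subgroup of `U`
  let U' : Subgroup M :=
    { carrier := {m | ∀ x : X, x • m ∈ U}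
      one_mem' := fun x => by rw [smul_one]; exact U.one_mem
      mul_mem' := fun {a b} ha hb x => by rw [smul_mul']; exact U.mul_mem (ha x) (hb x)
      inv_mem' := fun {a} ha x => by rw [smul_inv']; exact U.inv_mem (ha x) }
  have h1 := gen U' (fun x u hu z => by
    have := hu (z * x)
    rwa [mul_smul] at this) fun x => hU m₀ h0 x
  rw [eq_top_iff]
  intro m _
  have h2 : m ∈ U' := by rw [h1]; exact Subgroup.mem_top _
  have h3 := h2 1
  rwa [one_smul] at h3

end Cfsg.Agent.Omega.FOne.ActR

end

section


/-!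
# (F1), the minimal parabolic case, additive form with a group acting

`X` acts on the `𝔽₂`-space `W` and fixes `R ≤ W`, `C_W(T) ≤ R`, `W / R = ⟨θ^X⟩` with `θ` fixed by `T` modulo `R`.
-/

set_option autoImplicit false
set_option linter.unusedSectionVars false

namespace Cfsg.Agent.Omega.FOne.ActR

open Subgroup
open Cfsg.Agent.ClassTwoFusion.Quad (cv mem_cv)

universe u

section

variable {X W : Type*} [Group X] [AddCommGroup W] [DistribMulAction X W]

/-- `X` acts on `W`, written multiplicatively -/
@[reducible] def mact (X W : Type*) [Group X] [AddCommGroup W] [DistribMulAction X W] :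
    MulDistribMulAction X (Multiplicative W) where
  smul x v := Multiplicative.ofAdd (x • Multiplicative.toAdd v)
  one_smul v := congrArg Multiplicative.ofAdd (one_smul X (Multiplicative.toAdd v))
  mul_smul a b v := congrArg Multiplicative.ofAdd (mul_smul a b (Multiplicative.toAdd v))
  smul_mul x a b := congrArg Multiplicative.ofAdd (smul_add x (Multiplicative.toAdd a) (Multiplicative.toAdd b))
  smul_one x := congrArg Multiplicative.ofAdd (smul_zero x)

theorem qle {R : AddSubgroup W} (hR : ∀ (x : X), ∀ r ∈ R, x • r = r) (x : X) :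
    R ≤ R.comap (DistribSMul.toAddMonoidHom W x) := by
  intro r hr
  rw [AddSubgroup.mem_comap]
  change x • r ∈ R
  rw [hR x r hr]; exact hr

/-- `X` acts on `W / R`, written multiplicatively -/
@[reducible] def qact {R : AddSubgroup W} (hR : ∀ (x : X), ∀ r ∈ R, x • r = r) :
    MulDistribMulAction X (Multiplicative (W ⧸ R)) where
  smul x v := Multiplicative.ofAdd (QuotientAddGroup.map R R (DistribSMul.toAddMonoidHom W x) (qle hR x)
    (Multiplicative.toAdd v))
  one_smul v := by
    obtain ⟨w, hw⟩ := QuotientAddGroup.mk_surjective (Multiplicative.toAdd v)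
    obtain rfl : Multiplicative.ofAdd (QuotientAddGroup.mk w) = v := congrArg Multiplicative.ofAdd hw
    change Multiplicative.ofAdd (QuotientAddGroup.mk ((1 : X) • w)) = _
    rw [one_smul]
  mul_smul g h v := by
    obtain ⟨w, hw⟩ := QuotientAddGroup.mk_surjective (Multiplicative.toAdd v)
    obtain rfl : Multiplicative.ofAdd (QuotientAddGroup.mk w) = v := congrArg Multiplicative.ofAdd hw
    change Multiplicative.ofAdd (QuotientAddGroup.mk ((g * h) • w)) = _
    rw [mul_smul]
    rfl
  smul_mul g v w := by
    change Multiplicative.ofAdd (QuotientAddGroup.map R R _ (qle hR g)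
      (Multiplicative.toAdd v + Multiplicative.toAdd w)) = _
    rw [map_add]
    rfl
  smul_one g := by
    change Multiplicative.ofAdd (QuotientAddGroup.map R R _ (qle hR g) 0) = _
    rw [map_zero]
    rfl

/-- the projection `W → W / R` -/
def qmap (R : AddSubgroup W) : Multiplicative W →* Multiplicative (W ⧸ R) :=
  AddMonoidHom.toMultiplicative (QuotientAddGroup.mk' R)

theorem qmap_surj (R : AddSubgroup W) : Function.Surjective (qmap R) := fun v => by
  obtain ⟨w, hw⟩ := QuotientAddGroup.mk_surjective (Multiplicative.toAdd v)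
  exact ⟨Multiplicative.ofAdd w, congrArg Multiplicative.ofAdd hw⟩

theorem qmap_eq (two : ∀ w : W, w + w = 0) {R : AddSubgroup W} {a b : W} :
    qmap R (Multiplicative.ofAdd a) = qmap R (Multiplicative.ofAdd b) ↔ a + b ∈ R := by
  have h1 : qmap R (Multiplicative.ofAdd a) = qmap R (Multiplicative.ofAdd b) ↔
      (QuotientAddGroup.mk a : W ⧸ R) = QuotientAddGroup.mk b := Iff.rfl
  rw [h1, QuotientAddGroup.eq]
  have h2 : -a = a := neg_eq_of_add_eq_zero_left (two a)
  rw [h2]

theorem qmap_one {R : AddSubgroup W} {a : W} : qmap R (Multiplicative.ofAdd a) = 1 ↔ a ∈ R :=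
  QuotientAddGroup.eq_zero_iff a

/-- the preimage in `W` of the fixed points of `B` on `W / R` -/
def cmA (two : ∀ w : W, w + w = 0) (R : AddSubgroup W) (B : Subgroup X) : AddSubgroup W where
  carrier := {w | ∀ b ∈ B, b • w + w ∈ R}
  zero_mem' := fun b _ => by rw [smul_zero, add_zero]; exact R.zero_mem
  add_mem' := fun {a b} ha hb x hx => by
    have e1 : x • (a + b) + (a + b) = (x • a + a) + (x • b + b) := by rw [smul_add]; abel
    rw [e1]; exact R.add_mem (ha x hx) (hb x hx)
  neg_mem' := fun {a} ha x hx => by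
    have h2 : -a = a := neg_eq_of_add_eq_zero_left (two a)
    rw [h2]; exact ha x hx

theorem index_eq (two : ∀ w : W, w + w = 0) {R : AddSubgroup W} (hR : ∀ (x : X), ∀ r ∈ R, x • r = r)
    (B : Subgroup X) {C : AddSubgroup W} (hC : ∀ w, w ∈ C ↔ ∀ b ∈ B, b • w + w ∈ R) :
    letI := qact hR
    (cv (Multiplicative (W ⧸ R)) (B : Set X)).index = C.index := by
  let _ := qact hR
  have h1 := Subgroup.index_comap_of_surjective (cv (Multiplicative (W ⧸ R)) (B : Set X)) (qmap_surj R)
  rw [← h1]
  have h2 : (cv (Multiplicative (W ⧸ R)) (B : Set X)).comap (qmap R) = AddSubgroup.toSubgroup C := by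
    ext w
    obtain ⟨w, rfl⟩ := Multiplicative.ofAdd.surjective w
    rw [mem_comap, mem_cv]
    constructor
    · intro h3
      exact (hC w).2 fun b hb => (qmap_eq two).1 (h3 b hb)
    · intro h3 a ha
      exact (qmap_eq two).2 ((hC w).1 h3 a ha)
  rw [h2]
  rfl

end

/-- **nmax**, additive form -/
theorem no_minR {X W : Type u} [Group X] [Finite X] [AddCommGroup W] [Finite W] [DistribMulAction X W]
    {R : AddSubgroup W} {θ : W} {T B : Subgroup X} (cm : Subgroup X → AddSubgroup W)
    (hcm : ∀ C w, w ∈ cm C ↔ ∀ b ∈ C, b • w + w ∈ R) (two : ∀ w : W, w + w = 0)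
    (fixR : ∀ (x : X), ∀ r ∈ R, x • r = r) (faith : ∀ x : X, (∀ w, x • w + w ∈ R) → x = 1)
    (T2 : IsPGroup 2 T) (syl : ¬ 2 ∣ T.index) (fixT : ∀ w : W, (∀ t ∈ T, t • w = w) → w ∈ R)
    (Tθ : ∀ t ∈ T, t • θ + θ ∈ R)
    (gen : ∀ U : AddSubgroup W, R ≤ U → (∀ x : X, x • θ ∈ U) → U = ⊤) (BT : B ≤ T) (sq : ∀ b ∈ B, b * b = 1)
    (four : 4 ≤ Nat.card B) (exact : (cm B).index = Nat.card B)
    (atom : ∀ C : Subgroup X, C ≤ B → C ≠ ⊥ → C ≠ B → Nat.card C < (cm C).index) :
    ¬ ∃ N : Subgroup X, N ≠ ⊤ ∧ ∀ Q : Subgroup X, T ≤ Q → Q ≠ ⊤ → Q ≤ N := by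
  classical
  let i1 := mact X W
  let i2 := qact fixR
  have hfinM : Finite (Multiplicative (W ⧸ R)) := inferInstanceAs (Finite (W ⧸ R))
  have hfinW : Finite (Multiplicative W) := inferInstanceAs (Finite W)
  have hsm : ∀ (x : X) (w : W), x • qmap R (Multiplicative.ofAdd w) = qmap R (Multiplicative.ofAdd (x • w)) :=
    fun x w => rfl
  have hTθ : ∀ t ∈ T, t • qmap R (Multiplicative.ofAdd θ) = qmap R (Multiplicative.ofAdd θ) := fun t ht => by
    rw [hsm, qmap_eq two]; exact Tθ t ht
  have hgen : ∀ U : Subgroup (Multiplicative (W ⧸ R)), (∀ x : X, ∀ u ∈ U, x • u ∈ U) →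
      qmap R (Multiplicative.ofAdd θ) ∈ U → U = ⊤ := by
    intro U hU hθ
    have h1 := gen (Subgroup.toAddSubgroup' (U.comap (qmap R))) (fun r hr => by
      change qmap R (Multiplicative.ofAdd r) ∈ U
      rw [qmap_one.2 hr]; exact U.one_mem) fun x => hU x _ hθ
    rw [eq_top_iff]
    intro m _
    obtain ⟨w, rfl⟩ := qmap_surj R m
    obtain ⟨w, rfl⟩ := Multiplicative.ofAdd.surjective w
    have h2 : w ∈ Subgroup.toAddSubgroup' (U.comap (qmap R)) := by rw [h1]; exact AddSubgroup.mem_top _
    exact h2
  have hs : Sit T B (qmap R) :=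
    { sq := fun w => congrArg Multiplicative.ofAdd (two (Multiplicative.toAdd w))
      eqv := fun x w => rfl
      surj := qmap_surj R
      ker := fun w hw x => congrArg Multiplicative.ofAdd (fixR x _ (qmap_one.1 hw))
      faith := fun x hx => faith x fun w => (qmap_eq two).1 (hx (qmap R (Multiplicative.ofAdd w)))
      core := by
        intro N hN hN2
        -- `N ≤ T`
        let S : Sylow 2 X := T2.toSylow syl
        have hNT : N ≤ T := by
          obtain ⟨P, hP⟩ := hN2.exists_le_sylow
          obtain ⟨g, hg⟩ := MulAction.exists_smul_eq X P S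
          intro n hn
          have h1 : g * n * g⁻¹ ∈ N := hN.conj_mem n hn g
          have h2 : g⁻¹ * n * g ∈ N := by
            have := hN.conj_mem n hn g⁻¹
            rwa [inv_inv] at this
          have h3 : g⁻¹ * n * g ∈ P := hP h2
          have h4 : n ∈ (g • P : Sylow 2 X) := by
            change n ∈ ((g • P : Sylow 2 X) : Subgroup X)
            rw [Sylow.coe_subgroup_smul, Subgroup.mem_pointwise_smul_iff_inv_smul_mem]
            rw [← map_inv, MulAut.smul_def, MulAut.conj_apply, inv_inv]
            exact h3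
          rw [hg] at h4
          exact h4
        have hfx : ∀ n ∈ N, ∀ m : Multiplicative (W ⧸ R), n • m = m := by
          intro n hn m
          let U : Subgroup (Multiplicative (W ⧸ R)) :=
            { carrier := {m | ∀ n ∈ N, n • m = m}
              one_mem' := fun n _ => smul_one n
              mul_mem' := fun {a b} ha hb n hn => by rw [smul_mul', ha n hn, hb n hn]
              inv_mem' := fun {a} ha n hn => by rw [smul_inv', ha n hn] }
          have hU : U = ⊤ := hgen U (fun x u hu n hn => by
            have h5 : x⁻¹ * n * x ∈ N := by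
              have := hN.conj_mem n hn x⁻¹
              rwa [inv_inv] at this
            have h6 := congrArg (fun z => x • z) (hu _ h5)
            simp only [smul_smul] at h6
            rw [smul_smul]
            have e2 : x * (x⁻¹ * n * x) = n * x := by group
            rw [e2] at h6
            exact h6) fun n hn => hTθ n (hNT hn)
          have h7 : m ∈ U := by rw [hU]; exact mem_top _
          exact h7 n hn
        rw [eq_bot_iff]
        intro n hn
        rw [mem_bot]
        refine faith n fun w => ?_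
        rw [← qmap_eq two, ← hsm]
        exact hfx n hn _
      two := T2
      syl := syl
      fixT := fun w hw => qmap_one.2 (fixT (Multiplicative.toAdd w) fun t ht => congrArg Multiplicative.toAdd (hw t ht))
      gen := gen_of hTθ hgen
      BT := BT
      el := sq
      four := four
      exact := by rw [index_eq two fixR B (hcm B)]; exact exact
      atom := fun C h1 h2 h3 => by rw [index_eq two fixR C (hcm C)]; exact atom C h1 h2 h3 }
  exact hs.nmax

end Cfsg.Agent.Omega.FOne.ActR

end
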